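import Groth.Agent.GorSp.GorMap
import Groth.Agent.FlatLocus.FibreStalk
import Groth.Agent.WLocalLib.UnivHomeoEtale
import Groth.Prelude.Def_Dual3

/-! Gorenstein morphisms of schemes at a point, through local homomorphisms of stalks. -/

set_option autoImplicit false
set_option backward.isDefEq.respectTransparency false

universe u

open CategoryTheory CategoryTheory.Limits AlgebraicGeometry

namespace Groth.Agent.GorSp

open IsLocalRing

variable {X Y : Scheme.{u}}

/-- The local ring of the fibre is the closed fibre of the stalk map. -/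
noncomputable def fibreStalkEquiv (f : X ⟶ Y) (y : Y) (z : f.fiber y) :
    (X.presheaf.stalk (f.fiberι y z) ⧸ (maximalIdeal (Y.presheaf.stalk (f (f.fiberι y z)))).map
      (f.stalkMap (f.fiberι y z)).hom) ≃+* (f.fiber y).presheaf.stalk z :=
  (Ideal.quotEquivOfEq (Groth.Agent.FlatLocus.ker_fiberι_stalkMap f y z).symm).trans
    (RingHom.quotientKerEquivOfSurjective (f := ((f.fiberι y).stalkMap z).hom)
      (Groth.Agent.FlatLocus.fiberι_stalkMap_surjective f y z))

theorem gor_fibre_stalk_iff (f : X ⟶ Y) (y : Y) (z : f.fiber y) :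
    LocCoh.IsGorensteinLocalRing ((f.fiber y).presheaf.stalk z) ↔
      LocCoh.IsGorensteinLocalRing (X.presheaf.stalk (f.fiberι y z) ⧸
        (maximalIdeal (Y.presheaf.stalk (f (f.fiberι y z)))).map (f.stalkMap (f.fiberι y z)).hom) :=
  (GorLib.gorenstein_iff_ringEquiv (fibreStalkEquiv f y z)).symm

theorem isNoetherianRing_fibre_stalk (f : X ⟶ Y) (x : X) [IsLocallyNoetherian (f.fiber (f x))] :
    IsNoetherianRing (X.presheaf.stalk x ⧸
      (maximalIdeal (Y.presheaf.stalk (f x))).map (f.stalkMap x).hom) := by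
  have h : IsNoetherianRing (X.presheaf.stalk (f.fiberι _ (f.asFiber x)) ⧸
      (maximalIdeal (Y.presheaf.stalk (f (f.fiberι _ (f.asFiber x))))).map
        (f.stalkMap (f.fiberι _ (f.asFiber x))).hom) :=
    isNoetherianRing_of_ringEquiv _ (fibreStalkEquiv f (f x) (f.asFiber x)).symm
  exact (f.fiberι_asFiber x) ▸ h

/-- Gorenstein at a point, in terms of the stalk map. -/
theorem gorAt_iff (f : X ⟶ Y) (x : X) :
    Dual3.IsGorensteinAt f x ↔ GorMap (f.stalkMap x).hom := by
  have key : ∀ x' : X, x' = x → (LocCoh.IsGorensteinLocalRing (X.presheaf.stalk x' ⧸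
        (maximalIdeal (Y.presheaf.stalk (f x'))).map (f.stalkMap x').hom) ↔
      LocCoh.IsGorensteinLocalRing (X.presheaf.stalk x ⧸
        (maximalIdeal (Y.presheaf.stalk (f x))).map (f.stalkMap x).hom)) := by
    rintro x' rfl; exact Iff.rfl
  exact and_congr_right fun _ => (gor_fibre_stalk_iff f (f x) (f.asFiber x)).trans (key _ (f.fiberι_asFiber x))

theorem weaklyEtale_stalkMap (f : X ⟶ Y) [Etale f] (x : X) :
    letI := (f.stalkMap x).hom.toAlgebra
    Algebra.WeaklyEtale (Y.presheaf.stalk (f x)) (X.presheaf.stalk x) := by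
  algebraize [(f.stalkMap x).hom]
  haveI : WeaklyEtale (Spec.map (CommRingCat.ofHom
      (algebraMap (Y.presheaf.stalk (f x)) (X.presheaf.stalk x)))) :=
    WLocalLib.weaklyEtale_specMap_stalkMap f x
  exact WLocalLib.weaklyEtale_of_specMap

theorem gorMap_precomp_etale {P : Scheme.{u}} (t : P ⟶ X) [Etale t] (k : X ⟶ Y) (r : P) :
    Dual3.IsGorensteinAt (t ≫ k) r ↔ Dual3.IsGorensteinAt k (t r) := by
  rw [gorAt_iff, gorAt_iff, Scheme.Hom.stalkMap_comp]
  letI := (k.stalkMap (t r)).hom.toAlgebra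
  letI := (t.stalkMap r).hom.toAlgebra
  letI : Algebra (Y.presheaf.stalk (k (t r))) (P.presheaf.stalk r) :=
    ((t.stalkMap r).hom.comp (k.stalkMap (t r)).hom).toAlgebra
  haveI : IsScalarTower (Y.presheaf.stalk (k (t r))) (X.presheaf.stalk (t r)) (P.presheaf.stalk r) :=
    IsScalarTower.of_algebraMap_eq fun _ => rfl
  haveI : IsLocalHom (algebraMap (Y.presheaf.stalk (k (t r))) (X.presheaf.stalk (t r))) :=
    inferInstanceAs (IsLocalHom (k.stalkMap (t r)).hom)
  haveI : IsLocalHom (algebraMap (X.presheaf.stalk (t r)) (P.presheaf.stalk r)) :=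
    inferInstanceAs (IsLocalHom (t.stalkMap r).hom)
  haveI := weaklyEtale_stalkMap t r
  exact gorMap_postcomp_iff (Y.presheaf.stalk (k (t r))) (X.presheaf.stalk (t r)) (P.presheaf.stalk r)

theorem gorMap_postcomp_etale {W : Scheme.{u}} (l : X ⟶ W) (v : W ⟶ Y) [Etale v] (r : X) :
    Dual3.IsGorensteinAt (l ≫ v) r ↔ Dual3.IsGorensteinAt l r := by
  rw [gorAt_iff, gorAt_iff, Scheme.Hom.stalkMap_comp]
  letI := (v.stalkMap (l r)).hom.toAlgebra
  letI := (l.stalkMap r).hom.toAlgebra
  letI : Algebra (Y.presheaf.stalk (v (l r))) (X.presheaf.stalk r) :=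
    ((l.stalkMap r).hom.comp (v.stalkMap (l r)).hom).toAlgebra
  haveI : IsScalarTower (Y.presheaf.stalk (v (l r))) (W.presheaf.stalk (l r)) (X.presheaf.stalk r) :=
    IsScalarTower.of_algebraMap_eq fun _ => rfl
  haveI : IsLocalHom (algebraMap (Y.presheaf.stalk (v (l r))) (W.presheaf.stalk (l r))) :=
    inferInstanceAs (IsLocalHom (v.stalkMap (l r)).hom)
  haveI : IsLocalHom (algebraMap (W.presheaf.stalk (l r)) (X.presheaf.stalk r)) :=
    inferInstanceAs (IsLocalHom (l.stalkMap r).hom)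
  haveI := weaklyEtale_stalkMap v (l r)
  exact gorMap_precomp_iff (Y.presheaf.stalk (v (l r))) (W.presheaf.stalk (l r)) (X.presheaf.stalk r)

/-- Composition. -/
theorem gorAt_comp_iff {Z : Scheme.{u}} (f : X ⟶ Y) (g : Y ⟶ Z) (x : X) (hf : (f.stalkMap x).hom.Flat)
    [IsLocallyNoetherian ((f ≫ g).fiber ((f ≫ g) x))] :
    Dual3.IsGorensteinAt (f ≫ g) x ↔ Dual3.IsGorensteinAt g (f x) ∧ Dual3.IsGorensteinAt f x := by
  have hN := isNoetherianRing_fibre_stalk (f ≫ g) x
  rw [gorAt_iff, gorAt_iff, gorAt_iff, Scheme.Hom.stalkMap_comp]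
  rw [Scheme.Hom.stalkMap_comp] at hN
  letI := (g.stalkMap (f x)).hom.toAlgebra
  letI := (f.stalkMap x).hom.toAlgebra
  letI : Algebra (Z.presheaf.stalk (g (f x))) (X.presheaf.stalk x) :=
    ((f.stalkMap x).hom.comp (g.stalkMap (f x)).hom).toAlgebra
  haveI : IsScalarTower (Z.presheaf.stalk (g (f x))) (Y.presheaf.stalk (f x)) (X.presheaf.stalk x) :=
    IsScalarTower.of_algebraMap_eq fun _ => rfl
  haveI : IsLocalHom (algebraMap (Z.presheaf.stalk (g (f x))) (Y.presheaf.stalk (f x))) :=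
    inferInstanceAs (IsLocalHom (g.stalkMap (f x)).hom)
  haveI : IsLocalHom (algebraMap (Y.presheaf.stalk (f x)) (X.presheaf.stalk x)) :=
    inferInstanceAs (IsLocalHom (f.stalkMap x).hom)
  haveI : Module.Flat (Y.presheaf.stalk (f x)) (X.presheaf.stalk x) := hf
  exact gorMap_comp_iff (Z.presheaf.stalk (g (f x))) (Y.presheaf.stalk (f x)) (X.presheaf.stalk x) hN

/-- The Gorenstein property of local rings is étale local. -/
theorem gor_stalk_etale_iff (v : X ⟶ Y) [Etale v] (x : X) [IsNoetherianRing (Y.presheaf.stalk (v x))] :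
    LocCoh.IsGorensteinLocalRing (X.presheaf.stalk x) ↔
      LocCoh.IsGorensteinLocalRing (Y.presheaf.stalk (v x)) := by
  letI := (v.stalkMap x).hom.toAlgebra
  haveI : IsLocalHom (algebraMap (Y.presheaf.stalk (v x)) (X.presheaf.stalk x)) :=
    inferInstanceAs (IsLocalHom (v.stalkMap x).hom)
  haveI := weaklyEtale_stalkMap v x
  haveI := isNoetherianRing_of_weaklyEtale (Y.presheaf.stalk (v x)) (X.presheaf.stalk x)
  have h := gorMap_of_weaklyEtale (Y.presheaf.stalk (v x)) (X.presheaf.stalk x)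
  exact (GorLib.gorenstein_flat_iff _ _).trans (and_iff_left h.2)

end Groth.Agent.GorSp
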