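import Groth.Agent.CMFlatLib.BaseChange
import Groth.Agent.GorSp.Sch

/-! The Gorenstein property of fibres under base change. -/

set_option autoImplicit false

universe u

open CategoryTheory AlgebraicGeometry IsLocalRing TensorProduct

namespace Groth.Agent.GorSp

open CMFlatLib

/-- The closed fibre ring of a map is Gorenstein. -/
def GorFibre {R S : Type u} [CommRing R] [CommRing S] (g : R →+* S) : Prop :=
  LocCoh.IsGorensteinLocalRing (S ⧸ (Ideal.span (nonunits R)).map g)

theorem gor_congr {A B : Type u} [CommRing A] [CommRing B] (e : A ≃+* B) :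
    LocCoh.IsGorensteinLocalRing A ↔ LocCoh.IsGorensteinLocalRing B :=
  GorLib.gorenstein_iff_ringEquiv e

theorem gor_of_ringEquiv {A B : Type u} [CommRing A] [CommRing B] [h : LocCoh.IsGorensteinLocalRing A]
    (e : A ≃+* B) : LocCoh.IsGorensteinLocalRing B :=
  (gor_congr e).1 h

theorem respectsIso_gorFibre : RingHom.RespectsIso @GorFibre := by
  refine ⟨fun {R S T} _ _ _ g e h => ?_, fun {R S T} _ _ _ g e h => ?_⟩
  · haveI : LocCoh.IsGorensteinLocalRing (S ⧸ (Ideal.span (nonunits R)).map g) := h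
    refine gor_of_ringEquiv
      (Ideal.quotientEquiv ((Ideal.span (nonunits R)).map g) ((Ideal.span (nonunits R)).map (e.toRingHom.comp g)) e ?_)
    exact (Ideal.map_map g (e : S →+* T)).symm
  · haveI : LocCoh.IsGorensteinLocalRing (T ⧸ (Ideal.span (nonunits S)).map g) := h
    refine gor_of_ringEquiv (Ideal.quotEquivOfEq
      (I := (Ideal.span (nonunits S)).map g) (J := (Ideal.span (nonunits R)).map (g.comp e.toRingHom)) ?_)
    rw [← Ideal.map_map, map_span_nonunits e]

theorem localRingHom_gorFibre_iff {A B : Type u} [CommRing A] [CommRing B] [Algebra A B] (p : Ideal A) [p.IsPrime]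
    (q : Ideal B) [q.IsPrime] [q.LiesOver p] (Q : PrimeSpectrum (p.Fiber B))
    (hQ : Q.asIdeal.comap (Algebra.TensorProduct.includeRight : B →ₐ[A] p.Fiber B).toRingHom = q) :
    GorFibre (Localization.localRingHom p q (algebraMap A B) (q.over_def p)) ↔
      LocCoh.IsGorensteinLocalRing (Localization.AtPrime Q.asIdeal) := by
  obtain ⟨eB⟩ := exists_quotLocal_equiv p q Q.asIdeal hQ
  let e := (Ideal.quotEquivOfEq (show (Ideal.span (nonunits (Localization.AtPrime p))).map
      (Localization.localRingHom p q (algebraMap A B) (q.over_def p)) = p.map (algebraMap A (Localization.AtPrime q)) by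
    rw [span_nonunits, ← Localization.AtPrime.map_eq_maximalIdeal, Ideal.map_map]
    congr 1
    ext a
    exact (Localization.localRingHom_to_map p q (algebraMap A B) (q.over_def p) a).trans (IsScalarTower.algebraMap_apply A B _ a).symm)).trans eB
  exact ⟨fun h => haveI : LocCoh.IsGorensteinLocalRing _ := h; gor_of_ringEquiv e,
    fun h => haveI : LocCoh.IsGorensteinLocalRing (Localization.AtPrime Q.asIdeal) := h; gor_of_ringEquiv (A := Localization.AtPrime Q.asIdeal) e.symm⟩

/-- Base change along a field extension, for a noetherian algebra. -/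
theorem gor_iff_baseChange (k k' : Type u) [Field k] [Field k'] [Algebra k k'] (B : Type u) [CommRing B]
    [IsNoetherianRing B] [Algebra k B] [IsNoetherianRing (B ⊗[k] k')]
    (q : Ideal (B ⊗[k] k')) [q.IsPrime] (p : Ideal B) [p.IsPrime] (hp : q.comap (algebraMap B (B ⊗[k] k')) = p)
    (hfib : LocCoh.IsGorensteinRing (p.ResidueField ⊗[k] k')) :
    LocCoh.IsGorensteinLocalRing (Localization.AtPrime p) ↔
      LocCoh.IsGorensteinLocalRing (Localization.AtPrime q) := by
  let Q := PrimeSpectrum.primesOverOrderIsoFiber B (B ⊗[k] k') p ⟨q, ⟨inferInstance, ⟨hp.symm⟩⟩⟩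
  have hQ : q = Q.asIdeal.comap Algebra.TensorProduct.includeRight := by
    have := PrimeSpectrum.coe_primesOverOrderIsoFiber_symm_apply (R := B) (S := B ⊗[k] k') p Q
    rw [OrderIso.symm_apply_apply] at this
    exact this
  haveI : LocCoh.IsGorensteinRing (p.Fiber (B ⊗[k] k')) :=
    GorLib.gorensteinRing_of_ringEquiv (Algebra.TensorProduct.cancelBaseChange k B B p.ResidueField k').toRingEquiv.symm hfib
  rw [GorLib.gorenstein_fiber_iff p Q.asIdeal q hQ]
  refine ⟨fun h => ⟨h, ?_⟩, fun h => h.1⟩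
  exact LocCoh.IsGorensteinRing.isGorensteinLocalRing_localization _

/-- Base change along a field extension, at a point with noetherian local ring. -/
theorem gor_iff_baseChange_local (k k' : Type u) [Field k] [Field k'] [Algebra k k'] (B : Type u) [CommRing B]
    [Algebra k B] (q : Ideal (B ⊗[k] k')) [q.IsPrime] (p : Ideal B) [p.IsPrime]
    (hp : q.comap (algebraMap B (B ⊗[k] k')) = p) [IsNoetherianRing (Localization.AtPrime p)]
    (hk : Algebra.EssFiniteType k k' ∨ Algebra.EssFiniteType k B) :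
    LocCoh.IsGorensteinLocalRing (Localization.AtPrime p) ↔
      LocCoh.IsGorensteinLocalRing (Localization.AtPrime q) := by
  let M : Submonoid (B ⊗[k] k') := Algebra.algebraMapSubmonoid (B ⊗[k] k') p.primeCompl
  letI : Algebra (B ⊗[k] k') (Localization.AtPrime p ⊗[k] k') :=
    (Algebra.TensorProduct.map (IsScalarTower.toAlgHom k B (Localization.AtPrime p)) (AlgHom.id k k')).toRingHom.toAlgebra
  haveI : IsScalarTower B (B ⊗[k] k') (Localization.AtPrime p ⊗[k] k') :=
    IsScalarTower.of_algebraMap_eq fun b => by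
      simp [RingHom.algebraMap_toAlgebra, Algebra.TensorProduct.algebraMap_apply]
  haveI : IsLocalization M (Localization.AtPrime p ⊗[k] k') :=
    IsLocalization.tensorProduct_tensorProduct k k' p.primeCompl (Localization.AtPrime p) (by
      ext x; simp [RingHom.algebraMap_toAlgebra])
  have hdisj : Disjoint (M : Set (B ⊗[k] k')) (q : Set (B ⊗[k] k')) := by
    rw [Set.disjoint_left]
    rintro _ ⟨b, hb, rfl⟩ hbq
    exact hb (hp ▸ hbq : b ∈ p)
  let q2 := q.map (algebraMap (B ⊗[k] k') (Localization.AtPrime p ⊗[k] k'))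
  haveI : q2.IsPrime := IsLocalization.isPrime_of_isPrime_disjoint M _ q inferInstance hdisj
  have hq2 : q2.comap (algebraMap (B ⊗[k] k') (Localization.AtPrime p ⊗[k] k')) = q :=
    IsLocalization.comap_map_of_isPrime_disjoint M _ inferInstance hdisj
  -- the local ring downstairs
  have hmax : q2.comap (algebraMap (Localization.AtPrime p) (Localization.AtPrime p ⊗[k] k')) =
      maximalIdeal (Localization.AtPrime p) := by
    rw [← Localization.AtPrime.map_eq_maximalIdeal (I := p),
      ← IsLocalization.map_comap p.primeCompl (Localization.AtPrime p) (q2.comap _)]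
    congr 1
    rw [Ideal.under_def, Ideal.comap_comap, ← IsScalarTower.algebraMap_eq, IsScalarTower.algebraMap_eq B (B ⊗[k] k'),
      ← Ideal.comap_comap, hq2, hp]
  haveI : IsNoetherianRing (Localization.AtPrime p ⊗[k] k') := by
    rcases hk with h | h
    · exact Algebra.EssFiniteType.isNoetherianRing (Localization.AtPrime p) _
    · haveI : Algebra.EssFiniteType k (Localization.AtPrime p) := Algebra.EssFiniteType.comp k B _
      haveI : IsNoetherianRing (k' ⊗[k] Localization.AtPrime p) := Algebra.EssFiniteType.isNoetherianRing k' _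
      exact isNoetherianRing_of_ringEquiv _ (Algebra.TensorProduct.comm k k' (Localization.AtPrime p)).toRingEquiv
  haveI := isLocalization_atPrime_maximal (Localization.AtPrime p)
  have e1 := (IsLocalization.algEquiv (maximalIdeal (Localization.AtPrime p)).primeCompl
    (Localization.AtPrime (maximalIdeal (Localization.AtPrime p))) (Localization.AtPrime p)).toRingEquiv
  haveI : IsLocalization.AtPrime (Localization.AtPrime q2) (q2.comap (algebraMap (B ⊗[k] k') (Localization.AtPrime p ⊗[k] k'))) :=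
    IsLocalization.isLocalization_isLocalization_atPrime_isLocalization M _ q2
  haveI : IsLocalization.AtPrime (Localization.AtPrime q2) q := by
    have h := this
    simp only [hq2] at h
    exact h
  have e2 := (IsLocalization.algEquiv q.primeCompl (Localization.AtPrime q2) (Localization.AtPrime q)).toRingEquiv
  refine (gor_congr e1).symm.trans (Iff.trans ?_ (gor_congr (A := Localization.AtPrime q2) (B := Localization.AtPrime q) e2))
  refine gor_iff_baseChange k k' (Localization.AtPrime p) q2 _ hmax (gorenstein_residue_tensor k k' _ ?_)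
  refine hk.imp id fun h => ?_
  haveI := h
  haveI : Algebra.EssFiniteType k (Localization.AtPrime p) := Algebra.EssFiniteType.comp k B _
  exact Algebra.EssFiniteType.comp k (Localization.AtPrime p) _

theorem gor_comap_equiv {R P : Type u} [CommRing R] [CommRing P] (e : R ≃+* P) (J : Ideal P) [J.IsPrime]
    (I : Ideal R) [I.IsPrime] (h : I = J.comap e.toRingHom) :
    LocCoh.IsGorensteinLocalRing (Localization.AtPrime I) ↔ LocCoh.IsGorensteinLocalRing (Localization.AtPrime J) :=
  gor_congr (Localization.localRingEquiv I J e h)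

section Pushout

variable {A A' B B' : Type u} [CommRing A] [CommRing A'] [CommRing B] [CommRing B']
  [Algebra A A'] [Algebra A B] [Algebra A' B'] [Algebra B B'] [Algebra A B']
  [IsScalarTower A A' B'] [IsScalarTower A B B'] [Algebra.IsPushout A A' B B']

theorem gorFibre_baseChange_iff (p : Ideal A) [p.IsPrime] (p' : Ideal A') [p'.IsPrime] [p'.LiesOver p]
    (q : Ideal B) [q.IsPrime] [q.LiesOver p] (q' : Ideal B') [q'.IsPrime] [q'.LiesOver p'] [q'.LiesOver q]
    [IsNoetherianRing (Localization.AtPrime q ⧸ p.map (algebraMap A (Localization.AtPrime q)))]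
    (hA : Algebra.EssFiniteType A A' ∨ Algebra.EssFiniteType A B) :
    GorFibre (Localization.localRingHom p' q' (algebraMap A' B') (q'.over_def p')) ↔
      GorFibre (Localization.localRingHom p q (algebraMap A B) (q.over_def p)) := by
  letI := Localization.AtPrime.algebraOfLiesOver p p'
  let Q : PrimeSpectrum (p.Fiber B) := PrimeSpectrum.preimageEquivFiber A B ⟨p, inferInstance⟩ ⟨⟨q, inferInstance⟩, PrimeSpectrum.ext (q.over_def p).symm⟩
  have hQ : Q.asIdeal.comap (Algebra.TensorProduct.includeRight : B →ₐ[A] p.Fiber B).toRingHom = q :=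
    congrArg (fun z => z.1.asIdeal)
      ((PrimeSpectrum.preimageEquivFiber A B ⟨p, inferInstance⟩).symm_apply_apply ⟨⟨q, inferInstance⟩, PrimeSpectrum.ext (q.over_def p).symm⟩)
  let Q' : PrimeSpectrum (p'.Fiber B') := PrimeSpectrum.preimageEquivFiber A' B' ⟨p', inferInstance⟩ ⟨⟨q', inferInstance⟩, PrimeSpectrum.ext (q'.over_def p').symm⟩
  have hQ' : Q'.asIdeal.comap (Algebra.TensorProduct.includeRight : B' →ₐ[A'] p'.Fiber B').toRingHom = q' :=
    congrArg (fun z => z.1.asIdeal)
      ((PrimeSpectrum.preimageEquivFiber A' B' ⟨p', inferInstance⟩).symm_apply_apply ⟨⟨q', inferInstance⟩, PrimeSpectrum.ext (q'.over_def p').symm⟩)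
  rw [localRingHom_gorFibre_iff p q Q hQ, localRingHom_gorFibre_iff p' q' Q' hQ']
  obtain ⟨eB⟩ := exists_quotLocal_equiv p q Q.asIdeal hQ
  haveI : IsNoetherianRing (Localization.AtPrime Q.asIdeal) := isNoetherianRing_of_ringEquiv _ eB
  let e : p.Fiber B ⊗[p.ResidueField] p'.ResidueField ≃+* p'.Fiber B' :=
    ((Algebra.TensorProduct.comm p.ResidueField (p.Fiber B) p'.ResidueField).toRingEquiv.trans
      (Algebra.TensorProduct.cancelBaseChange A p.ResidueField p'.ResidueField p'.ResidueField B :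
        p'.ResidueField ⊗[p.ResidueField] (p.Fiber B) ≃ₐ[p'.ResidueField] p'.ResidueField ⊗[A] B).toRingEquiv).trans
      ((Algebra.TensorProduct.cancelBaseChange A A' A' p'.ResidueField B).toRingEquiv.symm.trans
        (Algebra.TensorProduct.congr (AlgEquiv.refl (R := A') (A₁ := p'.ResidueField)) (Algebra.IsPushout.equiv A A' B B')).toRingEquiv)
  have he : ∀ b : B, e (algebraMap (p.Fiber B) (p.Fiber B ⊗[p.ResidueField] p'.ResidueField)
      ((Algebra.TensorProduct.includeRight : B →ₐ[A] p.Fiber B) b)) =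
      (Algebra.TensorProduct.includeRight : B' →ₐ[A'] p'.Fiber B') (algebraMap B B' b) := fun b => by
    show Algebra.TensorProduct.congr (AlgEquiv.refl (R := A') (A₁ := p'.ResidueField)) (Algebra.IsPushout.equiv A A' B B')
      ((Algebra.TensorProduct.cancelBaseChange A A' A' p'.ResidueField B).symm
        (Algebra.TensorProduct.cancelBaseChange A p.ResidueField p'.ResidueField p'.ResidueField B
          (Algebra.TensorProduct.comm p.ResidueField (p.Fiber B) p'.ResidueField ((1 ⊗ₜ[A] b) ⊗ₜ[p.ResidueField] 1)))) = _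
    simp [Algebra.IsPushout.equiv_tmul]
  let q2 := Q'.asIdeal.comap e.toRingHom
  have hq2 : q2.comap (algebraMap (p.Fiber B) (p.Fiber B ⊗[p.ResidueField] p'.ResidueField)) = Q.asIdeal := by
    let P : PrimeSpectrum (p.Fiber B) := ⟨q2.comap (algebraMap _ _), inferInstance⟩
    suffices P = Q from congrArg PrimeSpectrum.asIdeal this
    refine (PrimeSpectrum.preimageEquivFiber A B ⟨p, inferInstance⟩).symm.injective ?_
    rw [show (PrimeSpectrum.preimageEquivFiber A B ⟨p, inferInstance⟩).symm Q = _ from Equiv.symm_apply_apply _ _]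
    refine Subtype.ext (PrimeSpectrum.ext ?_)
    ext b
    show e (algebraMap _ _ ((Algebra.TensorProduct.includeRight : B →ₐ[A] p.Fiber B) b)) ∈ Q'.asIdeal ↔ b ∈ q
    rw [he]
    exact (SetLike.ext_iff.1 hQ' (algebraMap B B' b)).trans (SetLike.ext_iff.1 (q'.over_def q).symm b)
  have hk : Algebra.EssFiniteType p.ResidueField p'.ResidueField ∨ Algebra.EssFiniteType p.ResidueField (p.Fiber B) := by
    refine hA.imp (fun h => ?_) fun h => Algebra.EssFiniteType.baseChange (T := p.ResidueField) (h := h)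
    haveI := h
    haveI : Algebra.EssFiniteType A p'.ResidueField := Algebra.EssFiniteType.comp A A' _
    exact Algebra.EssFiniteType.of_comp A p.ResidueField p'.ResidueField
  haveI : q2.IsPrime := Ideal.IsPrime.comap e.toRingHom
  exact ((gor_iff_baseChange_local p.ResidueField p'.ResidueField (p.Fiber B) q2 Q.asIdeal hq2 hk).trans
    (gor_comap_equiv (R := p.Fiber B ⊗[p.ResidueField] p'.ResidueField) (P := p'.Fiber B') e Q'.asIdeal q2 rfl)).symm

end Pushout

section Scheme

variable {X Y X' Y' : Scheme.{u}} {f : X ⟶ Y} {f' : X' ⟶ Y'} {g' : X' ⟶ X} {g : Y' ⟶ Y}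

/-- The closed fibre of a base change is Gorenstein iff the closed fibre downstairs is. -/
theorem gorFibre_isPullback_iff (hc : IsPullback g' f' f g) (x' : X') (hN : NoethFibre (f.stalkMap (g' x')).hom)
    (hft : LocallyOfFiniteType g ∨ LocallyOfFiniteType f) :
    GorFibre (f'.stalkMap x').hom ↔ GorFibre (f.stalkMap (g' x')).hom := by
  obtain ⟨V, W, V', hV, hW, hV', e, e', hxW, hxV'⟩ := PullbackMod.exists_affines hc x'
  obtain ⟨hW', hpo⟩ := PullbackMod.isPushout_appLE hc hV hW hV' e e'
  have hx' : x' ∈ g' ⁻¹ᵁ W ⊓ f' ⁻¹ᵁ V' := ⟨hxW, hxV'⟩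
  letI : Algebra Γ(Y, V) Γ(X, W) := (f.appLE V W e).hom.toAlgebra
  letI : Algebra Γ(Y, V) Γ(Y', V') := (g.appLE V V' e').hom.toAlgebra
  letI : Algebra Γ(X, W) Γ(X', g' ⁻¹ᵁ W ⊓ f' ⁻¹ᵁ V') := (g'.appLE W _ inf_le_left).hom.toAlgebra
  letI : Algebra Γ(Y', V') Γ(X', g' ⁻¹ᵁ W ⊓ f' ⁻¹ᵁ V') := (f'.appLE V' _ inf_le_right).hom.toAlgebra
  letI : Algebra Γ(Y, V) Γ(X', g' ⁻¹ᵁ W ⊓ f' ⁻¹ᵁ V') :=
    ((g'.appLE W _ inf_le_left).hom.comp (f.appLE V W e).hom).toAlgebra
  haveI : IsScalarTower Γ(Y, V) Γ(X, W) Γ(X', g' ⁻¹ᵁ W ⊓ f' ⁻¹ᵁ V') := .of_algebraMap_eq fun _ => rfl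
  haveI : IsScalarTower Γ(Y, V) Γ(Y', V') Γ(X', g' ⁻¹ᵁ W ⊓ f' ⁻¹ᵁ V') := .of_algebraMap_eq' (by
      show ((f.appLE V W e) ≫ g'.appLE W _ inf_le_left).hom =
        ((g.appLE V V' e') ≫ f'.appLE V' _ inf_le_right).hom
      simp only [Scheme.Hom.appLE_comp_appLE, hc.w])
  haveI : Algebra.IsPushout Γ(Y, V) Γ(Y', V') Γ(X, W) Γ(X', g' ⁻¹ᵁ W ⊓ f' ⁻¹ᵁ V') := hpo
  let q' := (hW'.primeIdealOf ⟨x', hx'⟩).asIdeal
  let q := (hW.primeIdealOf ⟨g' x', hxW⟩).asIdeal
  let p' := (hV'.primeIdealOf ⟨f' x', hxV'⟩).asIdeal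
  let p := (hV.primeIdealOf ⟨f (g' x'), e hxW⟩).asIdeal
  haveI : q.LiesOver p := ⟨congr($(IsAffineOpen.comap_primeIdealOf_appLE V hV W hW e hxW).1).symm⟩
  haveI : q'.LiesOver p' := ⟨congr($(IsAffineOpen.comap_primeIdealOf_appLE V' hV' _ hW' inf_le_right hx').1).symm⟩
  haveI : q'.LiesOver q := ⟨congr($(IsAffineOpen.comap_primeIdealOf_appLE W hW _ hW' inf_le_left hx').1).symm⟩
  haveI : p'.LiesOver p := by
    have h1 : p = q'.under Γ(Y, V) := (Ideal.LiesOver.trans q' q p).over
    exact ⟨h1.trans (Ideal.LiesOver.trans q' p' (p'.under Γ(Y, V))).over.symm⟩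
  haveI := isNoetherianRing_of_noethFibre p q
    ((appLE_stalkMap_iff respectsIso_noethFibre f hV hW e _ hxW).1 hN)
  have hA : Algebra.EssFiniteType Γ(Y, V) Γ(Y', V') ∨ Algebra.EssFiniteType Γ(Y, V) Γ(X, W) := by
    refine hft.imp (fun h => ?_) fun h => ?_
    · haveI := h
      haveI : Algebra.FiniteType Γ(Y, V) Γ(Y', V') := g.finiteType_appLE hV hV' e'
      infer_instance
    · haveI := h
      haveI : Algebra.FiniteType Γ(Y, V) Γ(X, W) := f.finiteType_appLE hV hW e
      infer_instance
  rw [appLE_stalkMap_iff respectsIso_gorFibre f hV hW e _ hxW,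
    appLE_stalkMap_iff respectsIso_gorFibre f' hV' hW' inf_le_right x' hx']
  exact gorFibre_baseChange_iff p p' q q' hA

end Scheme

theorem gorAt_iff_gorFibre {X Y : Scheme.{u}} (f : X ⟶ Y) (x : X) :
    Dual3.IsGorensteinAt f x ↔ (f.stalkMap x).hom.Flat ∧ GorFibre (f.stalkMap x).hom := by
  rw [gorAt_iff, GorMap, GorFibre, span_nonunits]

end Groth.Agent.GorSp
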