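import Groth.Agent.GorSp.Space
import Groth.Agent.GorSp.BaseChange

/-! Charts for base changes of morphisms of algebraic spaces, through a point. -/

set_option autoImplicit false
set_option backward.isDefEq.respectTransparency false
set_option backward.isDefEq.respectTransparency.types false

universe u

open CategoryTheory CategoryTheory.Limits AlgebraicGeometry
open AlgSp

namespace Groth.Agent.GorSp

open _root_.AlgSp Groth.Agent.ASp Groth.Agent.Inf

variable {S : Scheme.{u}}

/-- A cartesian diagram of charts through a point of a base change. -/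
theorem exists_baseChange_chart_through {X Y X' Y' : Sp S} (hX : IsAlgSpace X) (hY : IsAlgSpace Y)
    (hX' : IsAlgSpace X') (hY' : IsAlgSpace Y') {f : X ⟶ Y} {g : Y' ⟶ Y} {g' : X' ⟶ X} {f' : X' ⟶ Y'}
    (hsq : IsPullback g' f' f g) (x' : Points X') :
    ∃ (U V W : Over S) (a : (yon S).obj U ⟶ X) (b : (yon S).obj V ⟶ Y) (c : (yon S).obj W ⟶ Y')
      (k : U ⟶ V) (j : W ⟶ V) (a' : (yon S).obj (pullback k j) ⟶ X') (p : ↥(pullback k j).left),
      RepWith @Etale a ∧ RepWith @Etale b ∧ RepWith @Etale c ∧ RepWith @Etale a' ∧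
      a ≫ f = (yon S).map k ≫ b ∧ c ≫ g = (yon S).map j ≫ b ∧
      a' ≫ g' = (yon S).map (pullback.fst k j) ≫ a ∧ a' ≫ f' = (yon S).map (pullback.snd k j) ≫ c ∧
      Points.ofPt a' p = x' ∧ Points.ofPt a ((pullback.fst k j).left p) = Points.map g' x' ∧
      Points.ofPt c ((pullback.snd k j).left p) = Points.map f' x' := by
  obtain ⟨U, V, a, b, k, ha, has, hb, hbs, e⟩ := exists_chart (f := f) hX hY
  have hQ : IsAlgSpace (pullback g b) := isAlgSpace_pullback hY.diag hY' (IsAlgSpace.yon_obj V) g b
  obtain ⟨W, π, hπ, hπs⟩ := hQ.atlas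
  obtain ⟨j, hj⟩ := (yon S).map_surjective (π ≫ pullback.snd g b)
  have hc : RepWith @Etale (π ≫ pullback.fst g b) :=
    repWith_comp hπ (repWith_of_isPullback (IsPullback.of_hasPullback g b).flip hb)
  have ej : (yon S).map j ≫ b = (π ≫ pullback.fst g b) ≫ g := by
    rw [hj, Category.assoc, Category.assoc, pullback.condition]
  obtain ⟨a', ha', h1, h2⟩ := exists_baseChange_chart hsq ha hb hc e ej
  -- a point of `pullback k j` over `x'`
  obtain ⟨u₀, hu₀⟩ := surjective_ofPt has (Points.map g' x')
  obtain ⟨t, ht1, -⟩ := points_exists_of_isPullback (IsPullback.of_hasPullback g' a) x' (Points.ofScheme U u₀)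
    (by rw [← Points.ofPt_eq_map_ofScheme, hu₀])
  let τ : pullback g' a ⟶ pullback g b :=
    pullback.lift (pullback.fst g' a ≫ f') (pullback.snd g' a ≫ (yon S).map k) (by
      rw [Category.assoc, ← hsq.w, pullback.condition_assoc, Category.assoc, e])
  obtain ⟨w, hw⟩ := surjective_ofPt hπs (Points.map τ t)
  obtain ⟨z, hz1, -⟩ := points_exists_of_isPullback (IsPullback.of_hasPullback τ π) t (Points.ofScheme W w)
    (by rw [← Points.ofPt_eq_map_ofScheme, hw])
  have sqP := isPullback_yon_map (IsPullback.of_hasPullback k j)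
  let l : pullback τ π ⟶ (yon S).obj (pullback k j) :=
    sqP.lift (pullback.fst τ π ≫ pullback.snd g' a) (pullback.snd τ π) (by
      have := congrArg (· ≫ pullback.snd g b) (pullback.condition (f := τ) (g := π))
      simpa [τ, hj] using this)
  obtain ⟨p, hp⟩ := (Points.schemeHomeo (pullback k j)).surjective (Points.map l z)
  have hl : l ≫ a' = pullback.fst τ π ≫ pullback.fst g' a := by
    refine hsq.hom_ext ?_ ?_
    · rw [Category.assoc, h1, sqP.lift_fst_assoc, Category.assoc, Category.assoc, pullback.condition]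
    · rw [Category.assoc, h2, sqP.lift_snd_assoc, ← pullback.condition_assoc, pullback.lift_fst, Category.assoc]
  have hpx : Points.ofPt a' p = x' := by
    rw [Points.ofPt_eq_map_ofScheme, show Points.ofScheme _ p = Points.map l z from hp, ← Points.map_comp, hl,
      Points.map_comp, hz1, ht1]
  refine ⟨U, V, W, a, b, π ≫ pullback.fst g b, k, j, a', p, ha, hb, hc, ha', e, ej.symm, h1, h2, hpx, ?_, ?_⟩
  · rw [← hpx, Points.map_ofPt, h1, ofPt_yon_map_comp]
  · rw [← hpx, Points.map_ofPt, h2, ofPt_yon_map_comp]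

end Groth.Agent.GorSp
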