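import Groth.Agent.GorSp.WeakLocal
import Groth.Agent.GorLib.Flat
import Groth.Agent.GorLib.Ring
import Groth.Agent.WLocalLib.WeakEtale
import Groth.Agent.FpqcDesc.Stalk

/-! Gorenstein local homomorphisms of local rings. -/

set_option autoImplicit false

universe u

namespace Groth.Agent.GorSp

open IsLocalRing

/-- A flat local homomorphism with Gorenstein closed fibre. -/
def GorMap {A B : Type u} [CommRing A] [CommRing B] [IsLocalRing A] (φ : A →+* B) : Prop :=
  φ.Flat ∧ LocCoh.IsGorensteinLocalRing (B ⧸ (maximalIdeal A).map φ)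

/-- Weakly étale algebras transport along algebra isomorphisms. -/
theorem weaklyEtale_of_algEquiv {R S T : Type u} [CommRing R] [CommRing S] [CommRing T] [Algebra R S]
    [Algebra R T] (e : S ≃ₐ[R] T) (_ : Algebra.WeaklyEtale R S) : Algebra.WeaklyEtale R T := by
  letI := e.toRingEquiv.toRingHom.toAlgebra
  haveI : IsScalarTower R S T := IsScalarTower.of_algebraMap_eq fun x => (e.commutes x).symm
  haveI : Algebra.Etale S T := Algebra.Etale.of_equiv (AlgEquiv.ofBijective (Algebra.ofId S T) e.bijective)
  exact Algebra.WeaklyEtale.trans R S T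

variable (A B C : Type u) [CommRing A] [CommRing B] [CommRing C] [IsLocalRing A] [IsLocalRing B]
  [IsLocalRing C] [Algebra A B] [Algebra B C] [Algebra A C] [IsScalarTower A B C]
  [IsLocalHom (algebraMap A B)] [IsLocalHom (algebraMap B C)]

local notation "mAB" => Ideal.map (algebraMap A B) (maximalIdeal A)

theorem I_le : mAB ≤ maximalIdeal B :=
  Ideal.map_le_iff_le_comap.2 fun x hx => map_nonunit (algebraMap A B) x hx

theorem isLocalRing_quot {R : Type u} [CommRing R] [IsLocalRing R] {J : Ideal R} (h : J ≤ maximalIdeal R) :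
    IsLocalRing (R ⧸ J) := by
  haveI : Nontrivial (R ⧸ J) := Ideal.Quotient.nontrivial_iff.2 fun e =>
    (maximalIdeal.isMaximal R).ne_top (top_le_iff.1 (e ▸ h))
  exact IsLocalRing.of_surjective' (Ideal.Quotient.mk J) Ideal.Quotient.mk_surjective

/-- Composition of Gorenstein local homomorphisms. -/
theorem gorMap_comp_iff [Module.Flat B C]
    (hN : IsNoetherianRing (C ⧸ (maximalIdeal A).map (algebraMap A C))) :
    GorMap (algebraMap A C) ↔ GorMap (algebraMap A B) ∧ GorMap (algebraMap B C) := by
  haveI : Module.FaithfullyFlat B C := Module.FaithfullyFlat.of_flat_of_isLocalHom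
  have hJ : Ideal.map (algebraMap B C) mAB = (maximalIdeal A).map (algebraMap A C) := by
    rw [Ideal.map_map, ← IsScalarTower.algebraMap_eq]
  let B' := B ⧸ mAB
  let C' := C ⧸ Ideal.map (algebraMap B C) mAB
  haveI : IsNoetherianRing C' := by
    change IsNoetherianRing (C ⧸ _)
    rwa [hJ]
  haveI : IsLocalRing B' := isLocalRing_quot (I_le A B)
  haveI : IsLocalRing C' := isLocalRing_quot (Ideal.map_le_iff_le_comap.2 fun x hx =>
    map_nonunit (algebraMap B C) x (I_le A B hx))
  haveI : Module.Flat B' C' := GorLib.flat_quot_map (mAB)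
  haveI : IsLocalHom (Ideal.Quotient.mk (Ideal.map (algebraMap B C) mAB)) :=
    IsLocalHom.of_surjective _ Ideal.Quotient.mk_surjective
  haveI : IsLocalHom (algebraMap B' C') := ⟨fun x hx => by
    obtain ⟨b, rfl⟩ := Ideal.Quotient.mk_surjective x
    have h : IsUnit (algebraMap B C b) :=
      IsUnit.of_map (Ideal.Quotient.mk (Ideal.map (algebraMap B C) mAB)) _ hx
    exact (IsUnit.of_map (algebraMap B C) b h).map _⟩
  haveI : Module.FaithfullyFlat B' C' := Module.FaithfullyFlat.of_flat_of_isLocalHom
  haveI : IsNoetherianRing B' := NoethDesc.isNoetherianRing_of_faithfullyFlat B' C'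
  have hm : maximalIdeal B' = (maximalIdeal B).map (Ideal.Quotient.mk mAB) := by
    refine (eq_maximalIdeal (((maximalIdeal B).map_eq_top_or_isMaximal_of_surjective _
      Ideal.Quotient.mk_surjective (maximalIdeal.isMaximal B)).resolve_left fun h => ?_)).symm
    have := congrArg (Ideal.comap (Ideal.Quotient.mk mAB)) h
    rw [Ideal.comap_map_mk (I_le A B), Ideal.comap_top] at this
    exact (maximalIdeal.isMaximal B).ne_top this
  have hfib : (maximalIdeal B').map (algebraMap B' C') =
      ((maximalIdeal B).map (algebraMap B C)).map (Ideal.Quotient.mk (Ideal.map (algebraMap B C) mAB)) := by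
    rw [hm]
    exact (Ideal.map_map (Ideal.Quotient.mk mAB) (algebraMap B' C')).trans
      (Ideal.map_map (algebraMap B C) (Ideal.Quotient.mk (Ideal.map (algebraMap B C) mAB))).symm
  let e : (C' ⧸ (maximalIdeal B').map (algebraMap B' C')) ≃+* (C ⧸ (maximalIdeal B).map (algebraMap B C)) :=
    (Ideal.quotEquivOfEq hfib).trans (DoubleQuot.quotQuotEquivQuotOfLE (Ideal.map_mono (I_le A B)))
  haveI : IsLocalRing (C ⧸ (maximalIdeal B).map (algebraMap B C)) :=
    isLocalRing_quot (Ideal.map_le_iff_le_comap.2 fun x hx => map_nonunit (algebraMap B C) x hx)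
  have key := GorLib.gorenstein_flat_iff B' C'
  rw [GorLib.gorenstein_iff_ringEquiv e] at key
  have hBC : (algebraMap B C).Flat := RingHom.flat_algebraMap_iff.2 inferInstance
  constructor
  · rintro ⟨hf, hG⟩
    rw [← hJ] at hG
    haveI : Module.Flat A C := RingHom.flat_algebraMap_iff.1 hf
    exact ⟨⟨RingHom.flat_algebraMap_iff.2 (FlatDescStalk.flat_of_comp_faithfullyFlat A B C), (key.1 hG).1⟩,
      hBC, (key.1 hG).2⟩
  · rintro ⟨⟨hf, hB⟩, -, hC⟩
    haveI : Module.Flat A B := RingHom.flat_algebraMap_iff.1 hf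
    haveI : Module.Flat A C := Module.Flat.trans A B C
    refine ⟨RingHom.flat_algebraMap_iff.2 inferInstance, ?_⟩
    rw [← hJ]
    exact key.2 ⟨hB, hC⟩

/-- Weakly étale local homomorphisms are Gorenstein. -/
theorem gorMap_of_weaklyEtale [Algebra.WeaklyEtale A B] : GorMap (algebraMap A B) := by
  refine ⟨RingHom.flat_algebraMap_iff.2 inferInstance, ?_⟩
  rw [map_maximalIdeal_of_weaklyEtale A B]
  letI := Ideal.Quotient.field (maximalIdeal B)
  exact GorLib.gorensteinLocal_of_regular _

/-- Postcomposition with a weakly étale local homomorphism. -/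
theorem gorMap_postcomp_iff [Algebra.WeaklyEtale B C] :
    GorMap (algebraMap A C) ↔ GorMap (algebraMap A B) := by
  have hJ : Ideal.map (algebraMap B C) mAB = (maximalIdeal A).map (algebraMap A C) := by
    rw [Ideal.map_map, ← IsScalarTower.algebraMap_eq]
  have hI2 : Ideal.map (algebraMap B C) mAB ≤ maximalIdeal C :=
    Ideal.map_le_iff_le_comap.2 fun x hx => map_nonunit (algebraMap B C) x (I_le A B hx)
  constructor
  · intro h
    exact ((gorMap_comp_iff A B C (by haveI := h.2; infer_instance)).1 h).1
  · intro h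
    haveI : IsNoetherianRing (B ⧸ mAB) := by haveI := h.2; infer_instance
    haveI : IsLocalRing (B ⧸ mAB) := isLocalRing_quot (I_le A B)
    haveI : IsLocalRing (C ⧸ Ideal.map (algebraMap B C) mAB) := isLocalRing_quot hI2
    haveI : IsLocalHom (Ideal.Quotient.mk (Ideal.map (algebraMap B C) mAB)) :=
      IsLocalHom.of_surjective _ Ideal.Quotient.mk_surjective
    haveI : IsLocalHom (algebraMap (B ⧸ mAB) (C ⧸ Ideal.map (algebraMap B C) mAB)) := ⟨fun x hx => by
      obtain ⟨b, rfl⟩ := Ideal.Quotient.mk_surjective x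
      have h : IsUnit (algebraMap B C b) :=
        IsUnit.of_map (Ideal.Quotient.mk (Ideal.map (algebraMap B C) mAB)) _ hx
      exact (IsUnit.of_map (algebraMap B C) b h).map _⟩
    haveI : IsScalarTower B (B ⧸ mAB) (C ⧸ Ideal.map (algebraMap B C) mAB) :=
      IsScalarTower.of_algebraMap_eq fun _ => rfl
    let e0 := ((Algebra.TensorProduct.quotIdealMapEquivTensorQuot C mAB).restrictScalars B).trans
      (Algebra.TensorProduct.comm B C (B ⧸ mAB))
    haveI : Algebra.WeaklyEtale (B ⧸ mAB) (C ⧸ Ideal.map (algebraMap B C) mAB) :=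
      weaklyEtale_of_algEquiv (AlgEquiv.extendScalarsOfSurjective Ideal.Quotient.mk_surjective e0.symm)
        inferInstance
    have hN := isNoetherianRing_of_weaklyEtale (B ⧸ mAB) (C ⧸ Ideal.map (algebraMap B C) mAB)
    exact (gorMap_comp_iff A B C (hJ ▸ hN)).2 ⟨h, gorMap_of_weaklyEtale B C⟩

/-- Precomposition with a weakly étale local homomorphism. -/
theorem gorMap_precomp_iff [Algebra.WeaklyEtale A B] :
    GorMap (algebraMap A C) ↔ GorMap (algebraMap B C) := by
  have hJ : (maximalIdeal B).map (algebraMap B C) = (maximalIdeal A).map (algebraMap A C) := by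
    rw [← map_maximalIdeal_of_weaklyEtale A B, Ideal.map_map, ← IsScalarTower.algebraMap_eq]
  unfold GorMap
  rw [hJ, RingHom.flat_algebraMap_iff, RingHom.flat_algebraMap_iff]
  refine and_congr_left fun _ => ⟨fun _ => WLocalLib.flat_of_weaklyEtale (A := A) C, fun _ => Module.Flat.trans A B C⟩

/-- Gorenstein local homomorphisms are insensitive to weakly étale changes of source and target. -/
theorem gorMap_square_iff {A B A' B' : Type u} [CommRing A] [CommRing B] [CommRing A'] [CommRing B']
    [IsLocalRing A] [IsLocalRing B] [IsLocalRing A'] [IsLocalRing B'] (φ : A →+* B) [IsLocalHom φ]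
    (φ' : A' →+* B') [IsLocalHom φ'] [Algebra A A'] [Algebra B B'] [IsLocalHom (algebraMap A A')]
    [IsLocalHom (algebraMap B B')] [Algebra.WeaklyEtale A A'] [Algebra.WeaklyEtale B B']
    (h : φ'.comp (algebraMap A A') = (algebraMap B B').comp φ) :
    GorMap φ ↔ GorMap φ' := by
  letI := φ.toAlgebra
  letI := φ'.toAlgebra
  letI : Algebra A B' := ((algebraMap B B').comp φ).toAlgebra
  haveI : IsScalarTower A B B' := IsScalarTower.of_algebraMap_eq fun _ => rfl
  haveI : IsScalarTower A A' B' := IsScalarTower.of_algebraMap_eq fun x => (RingHom.congr_fun h x).symm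
  haveI : IsLocalHom (algebraMap A B) := ‹IsLocalHom φ›
  haveI : IsLocalHom (algebraMap A' B') := ‹IsLocalHom φ'›
  exact (gorMap_postcomp_iff A B B').symm.trans (gorMap_precomp_iff A A' B')

end Groth.Agent.GorSp
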