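import Groth.Agent.GorSp.Sch
import Groth.Agent.ASp.FlatLocusSp
import Groth.Agent.ASp.NoethFibre
import Groth.Agent.ASp.TrdegChart
import Groth.Prelude.Def_AlgSpMor5

/-! Gorenstein morphisms of algebraic spaces at a point. -/

set_option autoImplicit false
set_option backward.isDefEq.respectTransparency false
set_option backward.isDefEq.respectTransparency.types false

universe u

open CategoryTheory CategoryTheory.Limits AlgebraicGeometry
open AlgSp

namespace Groth.Agent.GorSp

open _root_.AlgSp Groth.Agent.ASp IsLocalRing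

variable {S : Scheme.{u}}

section
variable {X Y : Sp S} {f : X ⟶ Y}

/-- The Gorenstein property at a point can be tested in one chart. -/
theorem locPAt_gor_iff_of_chart {U V : Over S} {a : (yon S).obj U ⟶ X} {b : (yon S).obj V ⟶ Y}
    {k : U ⟶ V} (ha : RepWith @Etale a) (hb : RepWith @Etale b) (e : a ≫ f = (yon S).map k ≫ b)
    (u : ↥U.left) :
    LocPAt (fun h u => Dual3.IsGorensteinAt h u) f (Points.ofPt a u) ↔ Dual3.IsGorensteinAt k.left u := by
  refine ⟨fun h => h a b k u ha hb e rfl, fun h U' V' a' b' k' u' ha' hb' e' hu => ?_⟩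
  obtain ⟨P, t, s, r, ht, hs, hts, rfl, rfl⟩ := exists_common_point ha' ha hu
  obtain ⟨V₂, v₁, v₂, sq⟩ := exists_isPullback_yon hb'.1 b
  haveI hv₁ : Etale v₁.left := hb.2 _ _ _ sq.flip
  haveI hv₂ : Etale v₂.left := hb'.2 _ _ _ sq
  obtain ⟨l, hl⟩ := (yon S).map_surjective (sq.lift ((yon S).map (t ≫ k')) ((yon S).map (s ≫ k)) (by
    rw [Functor.map_comp, Functor.map_comp, Category.assoc, Category.assoc, ← e, ← e', reassoc_of% hts]))
  have h₁ : l.left ≫ v₁.left = t.left ≫ k'.left := by
    rw [← Over.comp_left, ← Over.comp_left]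
    exact congrArg CommaMorphism.left ((yon S).map_injective (by simp [hl]) : l ≫ v₁ = t ≫ k')
  have h₂ : l.left ≫ v₂.left = s.left ≫ k.left := by
    rw [← Over.comp_left, ← Over.comp_left]
    exact congrArg CommaMorphism.left ((yon S).map_injective (by simp [hl]) : l ≫ v₂ = s ≫ k)
  haveI : Etale t.left := ht
  haveI : Etale s.left := hs
  change Dual3.IsGorensteinAt k'.left (t.left r)
  rw [← gorMap_precomp_etale t.left k'.left r, ← h₁, gorMap_postcomp_etale,
    ← gorMap_postcomp_etale l.left v₂.left, h₂, gorMap_precomp_etale s.left k.left r]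
  exact h

/-- The Gorenstein fibres of a chart are the charts of the fibres. -/
theorem isLocallyNoetherian_fiber
    (hf : ∀ (p : FieldPt Y) (Xp : Sp S) (a : Xp ⟶ X) (b : Xp ⟶ (yon S).obj p.pt),
      IsPullback a b f p.toHom → IsLocNoethSp Xp)
    {U V : Over S} {a : (yon S).obj U ⟶ X} {b : (yon S).obj V ⟶ Y}
    {k : U ⟶ V} (ha : RepWith @Etale a) (hb : RepWith @Etale b) (e : a ≫ f = (yon S).map k ≫ b)
    (v : ↥V.left) : IsLocallyNoetherian (k.left.fiber v) := by
  let j : (FieldPt.ofPt b v).pt ⟶ V := Over.homMk (V.left.fromSpecResidueField v) rfl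
  obtain ⟨m, hm, -, -⟩ := FibreFlatSp.exists_fibre_chart ha hb e j
  have h := hf (FieldPt.ofPt b v) _ (pullback.fst _ _) (pullback.snd _ _)
    (IsPullback.of_hasPullback f (FieldPt.ofPt b v).toHom)
  rw [FieldPt.toHom_ofPt] at h
  haveI : IsLocallyNoetherian (pullback k j).left := isLocallyNoetherian_of_chart h hm
  exact isLocallyNoetherian_of_isOpenImmersion
    (isPullback_left (IsPullback.of_hasPullback k j)).isoPullback.inv

end

/-- Gorenstein algebraic spaces: every étale chart is Gorenstein. -/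
theorem isGorenstein_of_chart {P : Sp S} (hP : EtaleLocally Dual3.IsGorenstein P) {U : Over S}
    {φ : (yon S).obj U ⟶ P} (hφ : RepWith @Etale φ) : Dual3.IsGorenstein U.left := by
  obtain ⟨B, b, hb, hbs, hB, hBg⟩ := hP
  have hU : IsLocallyNoetherian U.left := isLocallyNoetherian_of_chart ⟨B, b, hb, hbs, hB⟩ hφ
  obtain ⟨W, w, v, hwe, hws, hv, -⟩ := exists_etale_cover hb hbs φ
  haveI : Etale w.left := hwe
  haveI : Surjective w.left := hws
  haveI : Etale v.left := etale_of_comp_eq (repWith_comp (repWith_yon_map hwe) hφ) hb hv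
  refine ⟨hU, fun u => ?_⟩
  obtain ⟨z, rfl⟩ := w.left.surjective u
  exact (gor_stalk_etale_iff w.left z).1 ((gor_stalk_etale_iff v.left z).2 (hBg _))

end Groth.Agent.GorSp
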