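import Groth.Agent.GorSp.WeakLocal
import Groth.Agent.WLocalLib.WeakEtale
import Groth.Agent.S2135

/-! Geometric unibranchness descends along flat local homomorphisms. -/

set_option autoImplicit false

universe u

namespace Groth.Agent.GorSp

open IsLocalRing

theorem hasUniqueMinimalPrime_of_faithfullyFlat {A B : Type u} [CommRing A] [CommRing B] [Algebra A B]
    [Module.FaithfullyFlat A B] (h : CAlgX.HasUniqueMinimalPrime B) : CAlgX.HasUniqueMinimalPrime A := by
  obtain ⟨P, hP, hu⟩ := h
  haveI := hP.1.1
  have hle : ∀ Q : Ideal A, Q.IsPrime → P.comap (algebraMap A B) ≤ Q := by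
    intro Q hQ
    obtain ⟨R, hR⟩ := PrimeSpectrum.comap_surjective_of_faithfullyFlat (B := B) ⟨Q, hQ⟩
    obtain ⟨P', hP', hP'R⟩ := Ideal.exists_minimalPrimes_le (I := (⊥ : Ideal B)) (J := R.asIdeal) bot_le
    rw [hu P' hP'] at hP'R
    exact (Ideal.comap_mono hP'R).trans (congrArg PrimeSpectrum.asIdeal hR).le
  refine ⟨P.comap (algebraMap A B), ⟨⟨Ideal.IsPrime.comap _, bot_le⟩, fun Q hQ _ => hle Q hQ.1⟩, fun Q hQ => ?_⟩
  exact le_antisymm (hQ.2 ⟨Ideal.IsPrime.comap _, bot_le⟩ (hle Q hQ.1.1)) (hle Q hQ.1.1)

/-- A flat local homomorphism to a geometrically unibranch local ring. -/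
theorem isGeomUnibranch_of_flat (A B : Type u) [CommRing A] [CommRing B] [IsLocalRing A] [IsLocalRing B]
    [Algebra A B] [IsLocalHom (algebraMap A B)] [Module.Flat A B] (h : CAlg2.IsGeomUnibranch B) :
    CAlg2.IsGeomUnibranch A := by
  let S := Henselization.StrictHenselizationRing A
  let T := Henselization.StrictHenselizationRing B
  haveI hS : Hensel.IsStrictHenselization A S := inferInstance
  haveI hT : Hensel.IsStrictHenselization B T := inferInstance
  letI : Algebra A T := ((algebraMap B T).comp (algebraMap A B)).toAlgebra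
  haveI : IsScalarTower A B T := IsScalarTower.of_algebraMap_eq fun _ => rfl
  haveI : IsLocalHom (algebraMap A T) := by
    rw [IsScalarTower.algebraMap_eq A B T]; infer_instance
  haveI : HenselianLocalRing T := hT.henselian
  haveI : IsSepClosed (ResidueField T) := hT.isSepClosure.sep_closed
  haveI : Algebra.IsSeparable (ResidueField A) (ResidueField S) := hS.isSepClosure.separable
  let τ : ResidueField S →ₐ[ResidueField A] ResidueField T := IsSepClosed.lift
  obtain ⟨g, ⟨hg1, hg2⟩, -⟩ := hS.universal T (algebraMap A T) τ.toRingHom (RingHom.ext fun x => τ.commutes x)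
  letI := g.toAlgebra
  haveI : IsScalarTower A S T := IsScalarTower.of_algebraMap_eq fun a => (RingHom.congr_fun hg1 a).symm
  haveI : IsLocalHom (algebraMap S T) := ⟨fun x hx => by
    rw [← residue_ne_zero_iff_isUnit] at hx ⊢
    intro h0
    refine hx ?_
    show residue T (g x) = 0
    rw [hg2, h0, map_zero]⟩
  haveI := S1467.weaklyEtale_sh A S
  haveI : Module.Flat A T := Module.Flat.trans A B T
  haveI : Module.Flat S T := WLocalLib.flat_of_weaklyEtale (A := A) T
  haveI : Module.FaithfullyFlat S T := Module.FaithfullyFlat.of_flat_of_isLocalHom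
  exact (S2135.result (A := A) (Ash := S)).2
    (hasUniqueMinimalPrime_of_faithfullyFlat ((S2135.result (A := B) (Ash := T)).1 h))

end Groth.Agent.GorSp
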