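import Groth.Agent.S1467
import Groth.Agent.FpqcDesc.Noeth
import Groth.Agent.Henselization.Properties
import Groth.Agent.Henselization.Transfer

/-! Weakly étale local homomorphisms of local rings. -/

set_option autoImplicit false

universe u

namespace Groth.Agent.GorSp

open IsLocalRing

variable (A B : Type u) [CommRing A] [CommRing B] [IsLocalRing A] [IsLocalRing B] [Algebra A B]
  [IsLocalHom (algebraMap A B)] [Algebra.WeaklyEtale A B]

/-- A strict henselization of the target is one of the source. -/
theorem exists_sh : ∃ (_ : Algebra A (Henselization.StrictHenselizationRing B))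
    (_ : IsScalarTower A B (Henselization.StrictHenselizationRing B))
    (_ : IsLocalHom (algebraMap A (Henselization.StrictHenselizationRing B))),
    Nonempty (Henselization.StrictHenselizationRing A ≃ₐ[A] Henselization.StrictHenselizationRing B) := by
  let T := Henselization.StrictHenselizationRing B
  letI : Algebra A T := ((algebraMap B T).comp (algebraMap A B)).toAlgebra
  haveI : IsScalarTower A B T := IsScalarTower.of_algebraMap_eq fun _ => rfl
  obtain ⟨hloc, hsh⟩ := S1467.sh_of_weaklyEtale A B T
  haveI := hsh
  exact ⟨inferInstance, inferInstance, hloc,
    Henselization.exists_algEquiv_of_isStrictHenselization A T⟩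

/-- A weakly étale local algebra over a noetherian local ring is noetherian. -/
theorem isNoetherianRing_of_weaklyEtale [IsNoetherianRing A] : IsNoetherianRing B := by
  obtain ⟨_, _, _, ⟨e⟩⟩ := exists_sh A B
  haveI : IsNoetherianRing (Henselization.StrictHenselizationRing A) := Henselization.isNoetherianRing
  haveI : IsNoetherianRing (Henselization.StrictHenselizationRing B) :=
    isNoetherianRing_of_ringEquiv _ e.toRingEquiv
  exact NoethDesc.isNoetherianRing_of_faithfullyFlat B (Henselization.StrictHenselizationRing B)

/-- A weakly étale local homomorphism is unramified on maximal ideals. -/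
theorem map_maximalIdeal_of_weaklyEtale :
    (maximalIdeal A).map (algebraMap A B) = maximalIdeal B := by
  obtain ⟨_, _, _, ⟨e⟩⟩ := exists_sh A B
  let T := Henselization.StrictHenselizationRing B
  have h1 : (maximalIdeal A).map (algebraMap A T) = maximalIdeal T :=
    Henselization.map_maximalIdeal_of_equiv e
  refine le_antisymm (Ideal.map_le_iff_le_comap.2 fun x hx => ?_) ?_
  · exact map_nonunit (algebraMap A B) x hx
  · rw [← Ideal.comap_map_eq_self_of_faithfullyFlat (B := T) ((maximalIdeal A).map (algebraMap A B)),
      Ideal.map_map, ← IsScalarTower.algebraMap_eq, h1]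
    intro x hx
    exact map_nonunit (algebraMap B T) x hx

end Groth.Agent.GorSp
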